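import Cfsg.Agent.H190.Cov.Two.Name
import Cfsg.Agent.H190.Odd.TwExact

/-!
# `²E₆(2)`: the isolated primes 19, 13 (S2499)
-/

set_option autoImplicit false

namespace Cfsg.Agent.H190.Cov.Two

open Cfsg Cfsg.Agent.OrdDiv Cfsg.Agent.H436 Cfsg.Agent.H902 Cfsg.Agent.H290.ElReg Cfsg.Agent.H290.ElTab
  Cfsg.Agent.H56.Exc Cfsg.Agent.H325.Loc Cfsg.Agent.H915.GN Cfsg.Agent.H264.FKS Cfsg.Agent.H325.Same Cfsg.Agent.H325.IsoExc
  Cfsg.Agent.H563.KG Cfsg.Agent.H190.Odd

theorem prim_of_order {q e r : ℕ} (hr : r.Prime) (hq : 1 ≤ q) (hrq : ¬ r ∣ q) (h : orderOf ((q : ℕ) : ZMod r) = e) :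
    Prim q e r := by
  refine ⟨hr, fun m => ?_, hrq⟩
  rw [← h, orderOf_dvd_iff_pow_eq_one, ← ZMod.natCast_eq_zero_iff, Nat.cast_sub (Nat.one_le_pow _ _ hq),
    Nat.cast_pow, Nat.cast_one, sub_eq_zero]

theorem prim19 : Prim 2 18 19 := by
  refine prim_of_order (by norm_num) (by norm_num) (by norm_num) ?_
  rw [orderOf_eq_iff (by norm_num)]
  refine ⟨by decide, fun m hm hm0 => ?_⟩
  interval_cases m <;> decide

theorem prim13 : Prim 2 12 13 := by
  refine prim_of_order (by norm_num) (by norm_num) (by norm_num) ?_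
  rw [orderOf_eq_iff (by norm_num)]
  refine ⟨by decide, fun m hm hm0 => ?_⟩
  interval_cases m <;> decide

theorem prim_mem {e r : ℕ} (he : 1 ≤ e) (h : Prim 2 e r) {l : List ℕ} (hl : (2 ^ e - 1 : ℕ) ∣ l.prod)
    (hl' : ∀ s ∈ l, s.Prime) : r ∈ l := by
  have h1 : r ∣ l.prod := ((h.dvd_iff e).2 dvd_rfl).trans hl
  rw [Prime.dvd_prod_iff h.prime.prime] at h1
  obtain ⟨s, hs, h2⟩ := h1
  rwa [(Nat.prime_dvd_prime_iff_eq h.prime (hl' s hs)).1 h2]

theorem eq19 {r : ℕ} (h : Prim 2 18 r) : r = 19 := by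
  have h1 := prim_mem (by norm_num) h (l := [3, 3, 3, 7, 19, 73]) (by norm_num) (by norm_num)
  simp only [List.mem_cons, List.not_mem_nil, or_false] at h1
  rcases h1 with rfl | rfl | rfl | rfl | rfl | rfl
  · exact absurd ((h.dvd_iff 2).1 (by norm_num)) (by norm_num)
  · exact absurd ((h.dvd_iff 2).1 (by norm_num)) (by norm_num)
  · exact absurd ((h.dvd_iff 2).1 (by norm_num)) (by norm_num)
  · exact absurd ((h.dvd_iff 3).1 (by norm_num)) (by norm_num)
  · rfl
  · exact absurd ((h.dvd_iff 9).1 (by norm_num)) (by norm_num)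

theorem eq13 {r : ℕ} (h : Prim 2 12 r) : r = 13 := by
  have h1 := prim_mem (by norm_num) h (l := [3, 3, 5, 7, 13]) (by norm_num) (by norm_num)
  simp only [List.mem_cons, List.not_mem_nil, or_false] at h1
  rcases h1 with rfl | rfl | rfl | rfl | rfl
  · exact absurd ((h.dvd_iff 2).1 (by norm_num)) (by norm_num)
  · exact absurd ((h.dvd_iff 2).1 (by norm_num)) (by norm_num)
  · exact absurd ((h.dvd_iff 4).1 (by norm_num)) (by norm_num)
  · exact absurd ((h.dvd_iff 3).1 (by norm_num)) (by norm_num)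
  · rfl

theorem eq11 {r : ℕ} (h : Prim 2 10 r) : r = 11 := by
  have h1 := prim_mem (by norm_num) h (l := [3, 11, 31]) (by norm_num) (by norm_num)
  simp only [List.mem_cons, List.not_mem_nil, or_false] at h1
  rcases h1 with rfl | rfl | rfl
  · exact absurd ((h.dvd_iff 2).1 (by norm_num)) (by norm_num)
  · rfl
  · exact absurd ((h.dvd_iff 5).1 (by norm_num)) (by norm_num)

theorem pp2 : IsPrimePow 2 := Nat.prime_two.isPrimePow

section

variable {F : Type} [Field F] [Fintype F] (hK : Fintype.card F = 2 ^ 2)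

include hK

theorem card_two (tb : OrderTable.{0}) : Nat.card ↥(Lie.twistedE6 F 2) = G0 := by
  have h : Nat.gcd 3 (2 + 1) * Nat.card ↥(Lie.twistedE6 F 2) = num (.te6 2) := (named_te6 (F := F) tb pp2 hK).eq
  have h1 : num (.te6 2) = 229597439051324561817600 := by decide +kernel
  have h2 : Nat.gcd 3 (2 + 1) = 3 := by norm_num
  have h3 : G0 = 76532479683774853939200 := by decide +kernel
  rw [h1, h2] at h
  omega

theorem big19 : Big ↥(Lie.twistedE6 F 2) 19 19 9 := by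
  have hb := big_TE6_18 pp2 hK (m := 57) (by norm_num) prim19
  exact ⟨hb.prime, hb.cyc, fun x hx => by
    have := (Cfsg.Agent.H190.Exc.te6_18 pp2 hK prim19).2 x hx
    exact this.trans (by norm_num), hb.aut, hb.ndvd⟩

theorem big13 : Big ↥(Lie.twistedE6 F 2) 13 13 12 := by
  have hb := big_TE6_12 pp2 hK (m := 39) (by norm_num) prim13
  refine ⟨hb.prime, hb.cyc, fun x hx => ?_, hb.aut, hb.ndvd⟩
  have := (exact_te6_12 pp2 hK (by norm_num) prim13 hx).1
  exact Nat.dvd_of_mul_dvd_mul_left (k := 3) (by norm_num) (this.trans (by norm_num))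

theorem piso19 : PIso 2 19 ↥(Lie.twistedE6 F 2) := by
  have : CharP F 2 := charP_of_pow (a := 2) Nat.prime_two hK
  have : Fact (Nat.Prime 2) := ⟨Nat.prime_two⟩
  exact piso_twE6 pp2 hK (Or.inr rfl) prim19

theorem piso13 : PIso 2 13 ↥(Lie.twistedE6 F 2) := by
  have : CharP F 2 := charP_of_pow (a := 2) Nat.prime_two hK
  have : Fact (Nat.Prime 2) := ⟨Nat.prime_two⟩
  exact piso_twE6 pp2 hK (Or.inl rfl) prim13

end

end Cfsg.Agent.H190.Cov.Two
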