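import Cfsg.Agent.H190.Cov.Two.K13
import Cfsg.Agent.H190.Cov.RowE6

/-!
# S2499, the row `²E₆(q)`, with the two facts on the elements of `²E₆(2)` as hypotheses
-/

set_option autoImplicit false

namespace Cfsg.Agent.H190.Cov.Two

open Cfsg Cfsg.Agent.OrdDiv Cfsg.Agent.H436 Cfsg.Agent.H902 Cfsg.Agent.H290.ElReg Cfsg.Agent.H290.ElTab
  Cfsg.Agent.H56.Exc Cfsg.Agent.H325.Loc Cfsg.Agent.H915.GN Cfsg.Agent.H264.FKS Cfsg.Agent.H325.Same
  Cfsg.Agent.H563.KG Cfsg.Agent.H190.Odd Cfsg.Agent.H278.Cov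

theorem not_dvd_index {G : Type*} [Group G] [Finite G] (hG : Nat.card G = G0) {H : Subgroup G} {r : ℕ}
    (hr2 : ¬ r ^ 2 ∣ G0) (h : r ∣ Nat.card H) : ¬ r ∣ H.index := by
  intro h1
  apply hr2
  rw [← hG, ← H.card_mul_index, pow_two]
  exact mul_dvd_mul h h1

/-- **`²E₆(2)` is not the union of the conjugates of two proper subgroups.** -/
theorem noTwo_two (tb : OrderTable.{0}) (hcyc : CycFixSolv.{0}) (hcf : CF) {F : Type} [Field F] [Fintype F]
    (hK : Fintype.card F = 2 ^ 2) (h33 : ∃ y : ↥(Lie.twistedE6 F 2), orderOf y = 33)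
    (hnr : ∀ x g : ↥(Lie.twistedE6 F 2), orderOf x = 11 → g * x * g⁻¹ ≠ x⁻¹) : NoTwo ↥(Lie.twistedE6 F 2) := by
  have hfin : Finite ↥(Lie.twistedE6 F 2) := inferInstance
  have hcard := card_two hK tb
  have : Fact (Nat.Prime 19) := ⟨by norm_num⟩
  have : Fact (Nat.Prime 13) := ⟨by norm_num⟩
  obtain ⟨x19, h19⟩ := exists_prime_orderOf_dvd_card' (G := ↥(Lie.twistedE6 F 2)) 19 (by rw [hcard]; decide +kernel)
  obtain ⟨x13, h13⟩ := exists_prime_orderOf_dvd_card' (G := ↥(Lie.twistedE6 F 2)) 13 (by rw [hcard]; decide +kernel)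
  obtain ⟨y, hy⟩ := h33
  refine noTwo_of_three (x := x19) (y := x13) (z := y) (fun H hH => ?_) (fun H hH => ?_) (fun H hH => ?_)
  · by_contra hcon
    rw [not_or] at hcon
    obtain ⟨g, hg⟩ := not_av hcon.1
    obtain ⟨g', hg'⟩ := not_av hcon.2
    refine hH (K_TE6 tb hcyc hcf pp2 hK H fun c hc s hs => ?_)
    have hc' : c = 18 ∨ c = 12 := by simpa using hc
    rcases hc' with rfl | rfl
    · obtain rfl := eq19 hs
      exact not_dvd_index hcard (by decide +kernel) (card_dvd_of_conj h19 hg)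
    · obtain rfl := eq13 hs
      exact not_dvd_index hcard (by decide +kernel) (card_dvd_of_conj h13 hg')
  · by_contra hcon
    rw [not_or] at hcon
    obtain ⟨g, hg⟩ := not_av hcon.1
    obtain ⟨g', hg'⟩ := not_av hcon.2
    refine hH (K1333 tb hcyc hcf hK hnr H (card_dvd_of_conj h13 hg) ⟨⟨_, hg'⟩, ?_⟩)
    rw [Subgroup.orderOf_mk, ← MulAut.conj_apply, (MulAut.conj g').orderOf_eq, hy]
  · by_contra hcon
    rw [not_or] at hcon
    obtain ⟨g, hg⟩ := not_av hcon.1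
    obtain ⟨g', hg'⟩ := not_av hcon.2
    exact hH (K1911 tb hcyc hcf hK H (card_dvd_of_conj h19 hg)
      (Dvd.dvd.trans (by norm_num) (card_dvd_of_conj hy hg')))

/-- **S2499, the row `²E₆(q)`.** -/
theorem noTwo_te6_of (tb : OrderTable.{0}) (hcyc : CycFixSolv.{0}) (hcf : CF)
    (h33 : ∀ {F : Type} [Field F] [Fintype F], Fintype.card F = 2 ^ 2 → ∃ y : ↥(Lie.twistedE6 F 2), orderOf y = 33)
    (hnr : ∀ {F : Type} [Field F] [Fintype F], Fintype.card F = 2 ^ 2 →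
      ∀ x g : ↥(Lie.twistedE6 F 2), orderOf x = 11 → g * x * g⁻¹ ≠ x⁻¹)
    {q : ℕ} {T : Type} [Group T] [Finite T] (h : IsNamed (.te6 q) T) : NoTwo T := by
  obtain ⟨F, _, _, hK, ⟨e⟩⟩ := h.real
  have hq : IsPrimePow q := h.cond
  rcases eq_or_lt_of_le hq.two_le with h2 | h2
  · subst h2
    exact (noTwo_two tb hcyc hcf hK (h33 hK) (hnr hK)).congr e.symm
  · exact (noTwo_twistedE6 tb hcyc hcf (F := F) hq hK h2).congr e.symm

end Cfsg.Agent.H190.Cov.Two
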