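import Cfsg.Agent.H190.Cov.Two.Rad3c
import Cfsg.Agent.H559.Row.SuzFrob
import Cfsg.Agent.H713.Spor.Fi22

/-!
# `²E₆(2)`: the subgroups of order divisible by `13` containing elements of order `33` (S2499)

* `frattini_index` : the index of a normal subgroup containing the Sylow `r`-subgroups of order `r`;
* `K1333` : such a subgroup is the whole group, if the elements of order 11 are not real.
-/

set_option autoImplicit false

namespace Cfsg.Agent.H190.Cov.Two

open Cfsg Cfsg.Agent.OrdDiv Cfsg.Agent.H436 Cfsg.Agent.H902 Cfsg.Agent.H290.ElReg Cfsg.Agent.H290.ElTab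
  Cfsg.Agent.H56.Exc Cfsg.Agent.H325.Loc Cfsg.Agent.H915.GN Cfsg.Agent.H264.FKS Cfsg.Agent.H325.Same Cfsg.Agent.H325.IsoExc
  Cfsg.Agent.H563.KG Cfsg.Agent.H190.Odd

/-- **The index** of a normal subgroup of order divisible by `r`, from the Frattini argument. -/
theorem frattini_index {G : Type*} [Group G] [Finite G] {r e : ℕ} (hb : Big G r r e) (hG2 : ¬ r ^ 2 ∣ Nat.card G)
    {S : Subgroup G} (hS : S.Normal) (hr : r ∣ Nat.card S) :
    ∃ j i : ℕ, j * S.index ∣ e ∧ Nat.card S = r * j * i ∧ i % r = 1 % r := by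
  have := Fact.mk hb.prime
  have hbS := hb.subgroup S
  obtain ⟨jG, iG, hjG, -, -, hnG⟩ := sylow_index hb (hr.trans (Subgroup.card_subgroup_dvd_card S)) hG2
  obtain ⟨j, i, hj, hji, hi, hnS⟩ := sylow_index hbS hr fun h => hG2 (h.trans (Subgroup.card_subgroup_dvd_card S))
  obtain ⟨x, hx⟩ := exists_prime_orderOf_dvd_card' r hr
  have hxG : orderOf (x : G) = r := by rw [Subgroup.orderOf_coe, hx]
  refine ⟨j, i, ?_, hji, hi⟩
  have key : jG = j * S.index := by
    have hPG : IsPGroup r (Subgroup.zpowers x) := IsPGroup.of_card (n := 1) (by rw [Nat.card_zpowers, hx, pow_one])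
    obtain ⟨P, hP'⟩ := hPG.exists_le_sylow
    have hP : (P : Subgroup S) = Subgroup.zpowers x := by
      refine (Subgroup.eq_of_le_of_card_ge hP' ?_).symm
      obtain ⟨k, hk⟩ := IsPGroup.iff_card.1 P.2
      have h1 : k ≤ 1 := by
        by_contra hk1
        exact hG2 (((pow_dvd_pow r (by omega : 2 ≤ k)).trans (by rw [← hk])).trans
          ((Subgroup.card_subgroup_dvd_card _).trans (Subgroup.card_subgroup_dvd_card _)))
      rw [hk, Nat.card_zpowers, hx]
      exact (Nat.pow_le_pow_right hb.prime.pos h1).trans (by rw [pow_one])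
    have h1 := Sylow.normalizer_sup_eq_top P
    rw [hP, MonoidHom.map_zpowers] at h1
    have h2 : Nat.card ↥(Subgroup.normalizer ((Subgroup.zpowers (S.subtype x) : Subgroup G) : Set G)) = r * jG :=
      hnG _ hxG
    set N := Subgroup.normalizer ((Subgroup.zpowers (S.subtype x) : Subgroup G) : Set G) with hN
    have h3 : S.relIndex N = S.index := by
      have h4 : S.relIndex (S ⊔ N) = S.relIndex N := Subgroup.relIndex_sup_left _ _
      rw [sup_comm, h1, Subgroup.relIndex_top_right] at h4
      exact h4.symm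
    have h5 : Nat.card (S.subgroupOf N) * S.index = r * jG := by
      rw [← h3, ← h2]
      exact (S.subgroupOf N).card_mul_index
    have h6 : Nat.card (S.subgroupOf N) = Nat.card (N.subgroupOf S) := by
      rw [← Subgroup.card_map_of_injective N.subtype_injective, ← Subgroup.card_map_of_injective S.subtype_injective,
        Subgroup.subgroupOf_map_subtype, Subgroup.subgroupOf_map_subtype, inf_comm]
    have h7 : N.subgroupOf S = Subgroup.normalizer ((Subgroup.zpowers x : Subgroup S) : Set S) := by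
      rw [hN, Subgroup.subgroupOf_normalizer_eq (by
        rw [Subgroup.zpowers_le]; exact x.2)]
      congr 2
      ext z
      rw [Subgroup.mem_subgroupOf, Subgroup.mem_zpowers_iff, Subgroup.mem_zpowers_iff]
      constructor
      · rintro ⟨k, hk⟩
        exact ⟨k, Subtype.ext hk⟩
      · rintro ⟨k, hk⟩
        exact ⟨k, congrArg Subtype.val hk⟩
    rw [h6, h7, hnS x hx, mul_assoc] at h5
    exact (Nat.eq_of_mul_eq_mul_left hb.prime.pos h5).symm
  rw [← key]
  exact hjG

theorem alt_real_of {n : ℕ} (x g : Equiv.Perm (Fin n)) (hx : x ^ 11 = 1) (hx1 : x ≠ 1) (hg : g * x * g⁻¹ = x⁻¹)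
    (hs : Equiv.Perm.sign g = 1) : ∃ x g : alternatingGroup (Fin n), orderOf x = 11 ∧ g * x * g⁻¹ = x⁻¹ := by
  have hsx : Equiv.Perm.sign x = 1 := by
    have h1 : x = (x ^ 6) ^ 2 := by
      rw [← pow_mul, show 6 * 2 = 11 + 1 by norm_num, pow_succ, hx, one_mul]
    rw [h1, map_pow]
    exact Int.units_sq _
  refine ⟨⟨x, Equiv.Perm.mem_alternatingGroup.2 hsx⟩, ⟨g, Equiv.Perm.mem_alternatingGroup.2 hs⟩, ?_, Subtype.ext hg⟩
  rw [Subgroup.orderOf_mk]
  exact orderOf_eq_prime_iff (hp := ⟨by norm_num⟩) |>.2 ⟨hx, hx1⟩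

def x13 : Equiv.Perm (Fin 13) := List.formPerm [0, 1, 2, 3, 4, 5, 6, 7, 8, 9, 10]
def g13 : Equiv.Perm (Fin 13) := Equiv.swap 1 10 * Equiv.swap 2 9 * Equiv.swap 3 8 * Equiv.swap 4 7 * Equiv.swap 5 6 *
  Equiv.swap 11 12
def x14 : Equiv.Perm (Fin 14) := List.formPerm [0, 1, 2, 3, 4, 5, 6, 7, 8, 9, 10]
def g14 : Equiv.Perm (Fin 14) := Equiv.swap 1 10 * Equiv.swap 2 9 * Equiv.swap 3 8 * Equiv.swap 4 7 * Equiv.swap 5 6 *
  Equiv.swap 11 12

theorem alt_real13 : ∃ x g : alternatingGroup (Fin 13), orderOf x = 11 ∧ g * x * g⁻¹ = x⁻¹ := by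
  refine alt_real_of x13 g13 (by decide +kernel) (by decide +kernel) (by decide +kernel) ?_
  unfold g13
  simp only [map_mul, Equiv.Perm.sign_swap', Fin.reduceEq, if_false]
  norm_num

theorem alt_real14 : ∃ x g : alternatingGroup (Fin 14), orderOf x = 11 ∧ g * x * g⁻¹ = x⁻¹ := by
  refine alt_real_of x14 g14 (by decide +kernel) (by decide +kernel) (by decide +kernel) ?_
  unfold g14
  simp only [map_mul, Equiv.Perm.sign_swap', Fin.reduceEq, if_false]
  norm_num

variable {F : Type} [Field F] [Fintype F]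

/-- **`²E₆(2)`, the primes 13, 11 and elements of order 33.** -/
theorem K1333 (tb : OrderTable.{0}) (hcyc : CycFixSolv.{0}) (hcf : CF) (hK : Fintype.card F = 2 ^ 2)
    (hnr : ∀ x g : ↥(Lie.twistedE6 F 2), orderOf x = 11 → g * x * g⁻¹ ≠ x⁻¹)
    (B : Subgroup ↥(Lie.twistedE6 F 2)) (h13 : 13 ∣ Nat.card B) (h33 : ∃ y : ↥B, orderOf y = 33) : B = ⊤ := by
  have hfin : Finite ↥(Lie.twistedE6 F 2) := inferInstance
  have hch2 : CharP F 2 := charP_of_pow (a := 2) Nat.prime_two hK
  have hT := named_te6 (F := F) tb pp2 hK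
  have hcard := card_two hK tb
  obtain ⟨y, hy⟩ := h33
  have h11 : 11 ∣ Nat.card B := Dvd.dvd.trans (by rw [hy]; norm_num) (orderOf_dvd_natCard y)
  have hdB : Nat.card ↥B ∣ G0 := hcard ▸ Subgroup.card_subgroup_dvd_card B
  obtain ⟨S, hSn, hSs, hSna, hbS, hrS, hri, hidx⟩ := one_section (n := 78) hcyc Nat.prime_two (F := F) (fth_TE6 2)
    (big13 hK) (piso13 hK) h13 (fun h => by
      have := h11.trans h
      norm_num at this) (fun t ht ht2 ht13 htB => by
      by_cases ht3 : t = 3
      · subst ht3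
        exact Or.inr (killB3 hK tb B h13 h11)
      left
      refine good_of_big ((big13 hK).subgroup B) ht ht13 h13 fun k hk hkB => ?_
      have hkG := hkB.trans hdB
      rcases prime_mem ht (htB.trans hdB) with rfl | rfl | rfl | rfl | rfl | rfl | rfl | rfl
      · exact absurd rfl ht2
      · exact absurd rfl ht3
      · have := pow_le5 hkG
        interval_cases k <;> norm_num
      · have := pow_le7 hkG
        interval_cases k <;> norm_num
      · have := pow_le11 hkG
        interval_cases k; norm_num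
      · exact absurd rfl ht13
      · have := pow_le17 hkG
        interval_cases k; norm_num
      · have := pow_le19 hkG
        interval_cases k; norm_num)
  have hdS' : Nat.card S ∣ Nat.card B := Subgroup.card_subgroup_dvd_card S
  have hdS : Nat.card S ∣ G0 := hdS'.trans hdB
  have h11S : 11 ∣ Nat.card S := by
    rw [← S.index_mul_card] at h11
    rcases (Nat.Prime.dvd_mul (by norm_num)).1 h11 with h | h
    · have := h.trans hidx
      norm_num at this
    · exact h
  have h143 : 143 ∣ Nat.card S := Nat.Coprime.mul_dvd_of_dvd_of_dvd (m := 11) (n := 13) (by norm_num) h11S hrS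
  have hKS : IsKnownSimple' S := hcf S
  rcases name_two tb (F := F) hSna hKS
    (((fth_TE6 (F := F) 2).sub B.subtype B.subtype_injective).sub S.subtype S.subtype_injective)
    tab_143 h143 hdS with ⟨k, hk, ⟨Φ⟩⟩ | ⟨g, hg, hgS⟩ | ⟨g, hg, hch⟩
  · exfalso
    have h1 := alt_lt hk Φ hdS
    have h2 := Cfsg.Agent.H290.ElRich.le_of_dvd_alt (show Nat.Prime 13 by norm_num) (by omega) Φ hrS
    have h3 : ∃ x g : alternatingGroup (Fin k), orderOf x = 11 ∧ g * x * g⁻¹ = x⁻¹ := by
      interval_cases k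
      · exact alt_real13
      · exact alt_real14
    obtain ⟨x, g, hx, hg⟩ := h3
    refine hnr ((((Φ.symm x : S) : B) : ↥(Lie.twistedE6 F 2))) (((Φ.symm g : S) : B) : ↥(Lie.twistedE6 F 2)) ?_ ?_
    · rw [Subgroup.orderOf_coe, Subgroup.orderOf_coe, MulEquiv.orderOf_eq, hx]
    · have h4 : Φ.symm g * Φ.symm x * (Φ.symm g)⁻¹ = (Φ.symm x)⁻¹ := by
        rw [← map_inv, ← map_mul, ← map_mul, hg, map_inv]
      exact congrArg (fun z : S => ((z : B) : ↥(Lie.twistedE6 F 2))) h4
  · exfalso
    have hB2 : ¬ 13 ^ 2 ∣ Nat.card B := fun h => by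
      have := pow_le13 (h.trans hdB)
      omega
    obtain ⟨j, i, hj, hji, hi⟩ := frattini_index ((big13 hK).subgroup B) hB2 hSn hrS
    have hjj : j ∣ 12 := Dvd.dvd.trans (Dvd.intro _ rfl) hj
    have hj12 : j ≤ 12 := Nat.le_of_dvd (by norm_num) hjj
    have hsp := isS_iff (spor_143 _ hgS (Nat.mod_eq_zero_of_dvd h143) (Nat.mod_eq_zero_of_dvd hdS))
    have h6 : j = 6 := by
      rcases hsp with rfl | rfl
      · have hc : Nat.card S = 448345497600 := by
          have h : den .suz * Nat.card S = num .suz := hg.eq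
          have h1 : den .suz = 1 := by decide +kernel
          have h2 : num .suz = 448345497600 := by decide +kernel
          rwa [h1, h2, one_mul] at h
        rw [hc] at hji
        interval_cases j <;> omega
      · have hc : Nat.card S = 64561751654400 := by
          have h : den .fi22 * Nat.card S = num .fi22 := hg.eq
          have h1 : den .fi22 = 1 := by decide +kernel
          have h2 : num .fi22 = 64561751654400 := by decide +kernel
          rwa [h1, h2, one_mul] at h
        rw [hc] at hji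
        interval_cases j <;> omega
    have hi2 : S.index ∣ 2 := by
      rw [h6] at hj
      exact Nat.dvd_of_mul_dvd_mul_left (k := 6) (by norm_num) hj
    -- an element of order 33 in `S`
    have hy2 : y ^ 2 ∈ S := by
      obtain ⟨c, hc⟩ := hi2
      have h : y ^ 2 = (y ^ S.index) ^ c := by rw [← pow_mul, ← hc]
      rw [h]
      exact pow_mem (Subgroup.pow_index_mem S y) c
    have hyo : orderOf (⟨y ^ 2, hy2⟩ : S) = 33 := by
      rw [Subgroup.orderOf_mk, orderOf_pow, hy]
      norm_num
    rcases hsp with rfl | rfl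
    · have hsuz : Spor.IsoSuz S := hg.real
      exact Cfsg.Agent.H559.Row.SuzFrob.suz_no hsuz (k := 3) (by norm_num) _ hyo
    · obtain ⟨e⟩ : Spor.IsoFi22 S := hg.real
      have hx : orderOf ((⟨y ^ 2, hy2⟩ : S) ^ 3) = 11 := by
        rw [orderOf_pow, hyo]
        norm_num
      have h22 := Cfsg.Agent.H713.Spor.Fi22.cent_11 e hx
      have hmem : ((⟨y ^ 2, hy2⟩ : S) ^ 11) ∈ Subgroup.centralizer ({(⟨y ^ 2, hy2⟩ : S) ^ 3} : Set S) := by
        rw [Subgroup.mem_centralizer_singleton_iff, ← pow_add, ← pow_add, add_comm]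
      have h5 := orderOf_dvd_natCard (⟨_, hmem⟩ : Subgroup.centralizer ({(⟨y ^ 2, hy2⟩ : S) ^ 3} : Set S))
      rw [Subgroup.orderOf_mk, orderOf_pow, hyo, h22] at h5
      norm_num at h5
  · have hdT : Nat.card S ∣ num (.te6 2) := hdS.trans (by decide +kernel)
    obtain rfl := charp_te6_1012 (p := 2) (f := 1) Nat.prime_two le_rfl hg.cond hch hg.eq hdT
      (fun s hs _ => by rw [eq11 hs]; exact h11S) (fun s hs _ => by rw [eq13 hs]; exact hrS)
    exact eq_top_of_name hT hg

end Cfsg.Agent.H190.Cov.Two
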