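import Cfsg.Agent.H190.Cov.Two.Facts

/-!
# `²E₆(2)`: the subgroups of order divisible by `19 * 11` (S2499)
-/

set_option autoImplicit false

namespace Cfsg.Agent.H190.Cov.Two

open Cfsg Cfsg.Agent.OrdDiv Cfsg.Agent.H436 Cfsg.Agent.H902 Cfsg.Agent.H290.ElReg Cfsg.Agent.H290.ElTab
  Cfsg.Agent.H56.Exc Cfsg.Agent.H325.Loc Cfsg.Agent.H915.GN Cfsg.Agent.H264.FKS Cfsg.Agent.H325.Same Cfsg.Agent.H325.IsoExc
  Cfsg.Agent.H563.KG Cfsg.Agent.H190.Odd

theorem free_of_big {G : Type*} [Group G] [Finite G] {r e t : ℕ} (h : Big G r r e) (ht : t.Prime) (htr : t ≠ r) :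
    Free G t r := by
  intro x hx hxr a ha hc
  have h1 : orderOf x = r := (Nat.prime_dvd_prime_iff_eq hx h.prime).1 hxr
  have h2 : a ∈ Subgroup.centralizer ({x} : Set G) := Subgroup.mem_centralizer_singleton_iff.2 hc.symm
  have h3 : orderOf a ∣ r := by
    have h4 := (orderOf_dvd_natCard (⟨a, h2⟩ : Subgroup.centralizer ({x} : Set G))).trans (h.card x h1)
    rwa [Subgroup.orderOf_mk] at h4
  have h4 : orderOf a ∣ t := orderOf_dvd_of_pow_eq_one ha
  rcases (Nat.dvd_prime ht).1 h4 with h5 | h5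
  · exact orderOf_eq_one_iff.1 h5
  · rw [h5] at h3
    exact absurd ((Nat.prime_dvd_prime_iff_eq ht h.prime).1 h3) htr

theorem good_of_big {G : Type*} [Group G] [Finite G] {r e t n : ℕ} (h : Big G r r e) (ht : t.Prime) (htr : t ≠ r)
    (hr : r ∣ Nat.card G) (hk : ∀ k, 0 < k → t ^ k ∣ Nat.card G → ¬ r ∣ t ^ k - 1) : Good G n t :=
  ⟨r, hr, free_of_big h ht htr, Or.inr ⟨h.prime, hk⟩⟩

theorem prime_mem {t : ℕ} (ht : t.Prime) (h : t ∣ G0) :
    t = 2 ∨ t = 3 ∨ t = 5 ∨ t = 7 ∨ t = 11 ∨ t = 13 ∨ t = 17 ∨ t = 19 := by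
  unfold G0 at h
  have key : ∀ {a b : ℕ}, t ∣ a * b → t ∣ a ∨ t ∣ b := fun {a b} hab => ht.dvd_mul.1 hab
  rcases key h with h | h
  · rcases key h with h | h
    · rcases key h with h | h
      · rcases key h with h | h
        · rcases key h with h | h
          · rcases key h with h | h
            · rcases key h with h | h
              · exact Or.inl ((Nat.prime_dvd_prime_iff_eq ht (by norm_num)).1 (ht.dvd_of_dvd_pow h))
              · have := (Nat.prime_dvd_prime_iff_eq ht (by norm_num)).1 (ht.dvd_of_dvd_pow h); omega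
            · have := (Nat.prime_dvd_prime_iff_eq ht (by norm_num)).1 (ht.dvd_of_dvd_pow h); omega
          · have := (Nat.prime_dvd_prime_iff_eq ht (by norm_num)).1 (ht.dvd_of_dvd_pow h); omega
        · have := (Nat.prime_dvd_prime_iff_eq ht (by norm_num)).1 h; omega
      · have := (Nat.prime_dvd_prime_iff_eq ht (by norm_num)).1 h; omega
    · have := (Nat.prime_dvd_prime_iff_eq ht (by norm_num)).1 h; omega
  · have := (Nat.prime_dvd_prime_iff_eq ht (by norm_num)).1 h; omega

theorem pow_le3 {k : ℕ} (h : 3 ^ k ∣ G0) : k ≤ 9 := pow_bound (M := G0) (by decide +kernel) h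
theorem pow_le5 {k : ℕ} (h : 5 ^ k ∣ G0) : k ≤ 2 := pow_bound (M := G0) (by decide +kernel) h
theorem pow_le7 {k : ℕ} (h : 7 ^ k ∣ G0) : k ≤ 2 := pow_bound (M := G0) (by decide +kernel) h
theorem pow_le11 {k : ℕ} (h : 11 ^ k ∣ G0) : k ≤ 1 := pow_bound (M := G0) (by decide +kernel) h
theorem pow_le13 {k : ℕ} (h : 13 ^ k ∣ G0) : k ≤ 1 := pow_bound (M := G0) (by decide +kernel) h
theorem pow_le17 {k : ℕ} (h : 17 ^ k ∣ G0) : k ≤ 1 := pow_bound (M := G0) (by decide +kernel) h
theorem pow_le19 {k : ℕ} (h : 19 ^ k ∣ G0) : k ≤ 1 := pow_bound (M := G0) (by decide +kernel) h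

theorem dvd_fact {k d : ℕ} (hk : 5 ≤ k) {S : Type*} [Group S] [Finite S] (Φ : S ≃* alternatingGroup (Fin k))
    (h : d ∣ k.factorial) (hd : ¬ 2 ∣ d) : d ∣ Nat.card S := by
  have : Nontrivial (Fin k) := Fin.nontrivial_iff_two_le.2 (by omega)
  have h4 : 2 * Nat.card S = k.factorial := by
    rw [Nat.card_congr Φ.toEquiv, Nat.card_eq_fintype_card, two_mul_card_alternatingGroup, Fintype.card_perm,
      Fintype.card_fin]
  rw [← h4] at h
  exact (Nat.Coprime.dvd_mul_left ((Nat.Prime.coprime_iff_not_dvd Nat.prime_two).2 hd).symm).1 h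

/-- `5 ^ 3` does not divide: the degree of an alternating group -/
theorem alt_lt {k : ℕ} (hk : 5 ≤ k) {S : Type*} [Group S] [Finite S] (Φ : S ≃* alternatingGroup (Fin k))
    (h : Nat.card S ∣ G0) : k < 15 := by
  by_contra hcon
  have h1 : 5 ^ 3 ∣ k.factorial := Dvd.dvd.trans (by decide +kernel) (Nat.factorial_dvd_factorial (by omega : 15 ≤ k))
  have h2 := (dvd_fact hk Φ h1 (by norm_num)).trans h
  exact absurd h2 (by decide +kernel)

/-- the number of Sylow subgroups: `|S| = r * j * i` with `i ≡ 1` modulo `r`, `j ∣ e` -/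
theorem sylow_index {S : Type*} [Group S] [Finite S] {r e : ℕ} (h : Big S r r e) (hr : r ∣ Nat.card S)
    (hr2 : ¬ r ^ 2 ∣ Nat.card S) : ∃ j i : ℕ, j ∣ e ∧ Nat.card S = r * j * i ∧ i % r = 1 % r ∧
      ∀ x : S, orderOf x = r → Nat.card ↥(Subgroup.normalizer ((Subgroup.zpowers x : Subgroup S) : Set S)) = r * j := by
  have := Fact.mk h.prime
  have hfin : Finite (Sylow r S) := inferInstance
  obtain ⟨x, hx⟩ := exists_prime_orderOf_dvd_card' r hr
  have hP : Nat.card (Subgroup.zpowers x) = r := by rw [Nat.card_zpowers, hx]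
  have key : ∀ x : S, orderOf x = r → ∃ P : Sylow r S, (P : Subgroup S) = Subgroup.zpowers x := by
    intro x hx
    have hPG : IsPGroup r (Subgroup.zpowers x) := IsPGroup.of_card (n := 1) (by rw [Nat.card_zpowers, hx, pow_one])
    obtain ⟨P, hP'⟩ := hPG.exists_le_sylow
    refine ⟨P, (Subgroup.eq_of_le_of_card_ge hP' ?_).symm⟩
    obtain ⟨k, hk⟩ := IsPGroup.iff_card.1 P.2
    have h1 : k ≤ 1 := by
      by_contra hk1
      exact hr2 (((pow_dvd_pow r (by omega : 2 ≤ k)).trans (by rw [← hk])).trans (Subgroup.card_subgroup_dvd_card _))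
    rw [hk, Nat.card_zpowers, hx]
    exact (Nat.pow_le_pow_right h.prime.pos h1).trans (by rw [pow_one])
  obtain ⟨P, hPx⟩ := key x hx
  have h1 := card_sylow_modEq_one r S
  have h2 : Nat.card (Sylow r S) = (Subgroup.normalizer ((P : Subgroup S) : Set S)).index := P.card_eq_index_normalizer
  have h3 := h.card_normalizer_dvd hx
  have h4 : r ∣ Nat.card ↥(Subgroup.normalizer ((Subgroup.zpowers x : Subgroup S) : Set S)) := by
    rw [← hP]
    exact Subgroup.card_dvd_of_le Subgroup.le_normalizer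
  obtain ⟨j, hj⟩ := h4
  refine ⟨j, (Subgroup.normalizer ((P : Subgroup S) : Set S)).index, ?_, ?_, ?_, ?_⟩
  · rw [hj, mul_comm e r] at h3
    exact Nat.dvd_of_mul_dvd_mul_left h.prime.pos h3
  · rw [← hj, ← hPx]
    exact (Subgroup.card_mul_index _).symm
  · rw [← h2]; exact h1
  · intro y hy
    obtain ⟨Q, hQ⟩ := key y hy
    rw [← hj, ← hPx, ← hQ]
    obtain ⟨g, hg⟩ := MulAction.exists_smul_eq S P Q
    rw [← hg]
    have h5 : Nat.card ↥(Subgroup.normalizer (((g • P : Sylow r S) : Subgroup S) : Set S)) *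
        (Subgroup.normalizer (((g • P : Sylow r S) : Subgroup S) : Set S)).index =
        Nat.card ↥(Subgroup.normalizer ((P : Subgroup S) : Set S)) *
        (Subgroup.normalizer ((P : Subgroup S) : Set S)).index := by
      rw [Subgroup.card_mul_index, Subgroup.card_mul_index]
    have h7 : Nat.card (Sylow r S) = (Subgroup.normalizer (((g • P : Sylow r S) : Subgroup S) : Set S)).index :=
      (g • P).card_eq_index_normalizer
    have h6 : (Subgroup.normalizer (((g • P : Sylow r S) : Subgroup S) : Set S)).index =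
        (Subgroup.normalizer ((P : Subgroup S) : Set S)).index := h7.symm.trans h2
    rw [h6] at h5
    exact Nat.eq_of_mul_eq_mul_right (Nat.pos_of_ne_zero Subgroup.index_ne_zero_of_finite) h5

variable {F : Type} [Field F] [Fintype F]

/-- **`²E₆(2)`, the primes 19, 11.** -/
theorem K1911 (tb : OrderTable.{0}) (hcyc : CycFixSolv.{0}) (hcf : CF) (hK : Fintype.card F = 2 ^ 2)
    (B : Subgroup ↥(Lie.twistedE6 F 2)) (h19 : 19 ∣ Nat.card B) (h11 : 11 ∣ Nat.card B) : B = ⊤ := by
  have hfin : Finite ↥(Lie.twistedE6 F 2) := inferInstance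
  have hch2 : CharP F 2 := charP_of_pow (a := 2) Nat.prime_two hK
  have hT := named_te6 (F := F) tb pp2 hK
  have hcard := card_two hK tb
  have hdB : Nat.card ↥B ∣ G0 := hcard ▸ Subgroup.card_subgroup_dvd_card B
  obtain ⟨S, hSn, hSs, hSna, hbS, hrS, hri, hidx⟩ := one_section (n := 78) hcyc Nat.prime_two (F := F) (fth_TE6 2)
    (big19 hK) (piso19 hK) h19 (fun h => by
      have := h11.trans h
      norm_num at this) (fun t ht ht2 ht19 htB => by
      left
      refine good_of_big ((big19 hK).subgroup B) ht ht19 h19 fun k hk hkB => ?_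
      have hkG := hkB.trans hdB
      rcases prime_mem ht (htB.trans hdB) with rfl | rfl | rfl | rfl | rfl | rfl | rfl | rfl
      · exact absurd rfl ht2
      · have := pow_le3 hkG
        interval_cases k <;> norm_num
      · have := pow_le5 hkG
        interval_cases k <;> norm_num
      · have := pow_le7 hkG
        interval_cases k <;> norm_num
      · have := pow_le11 hkG
        interval_cases k <;> norm_num
      · have := pow_le13 hkG
        interval_cases k <;> norm_num
      · have := pow_le17 hkG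
        interval_cases k <;> norm_num
      · exact absurd rfl ht19)
  have hdS' : Nat.card S ∣ Nat.card B := Subgroup.card_subgroup_dvd_card S
  have hdS : Nat.card S ∣ G0 := hdS'.trans hdB
  have h11S : 11 ∣ Nat.card S := by
    rw [← S.index_mul_card] at h11
    rcases (Nat.Prime.dvd_mul (by norm_num)).1 h11 with h | h
    · have := h.trans hidx
      norm_num at this
    · exact h
  have h209 : 209 ∣ Nat.card S := Nat.Coprime.mul_dvd_of_dvd_of_dvd (m := 11) (n := 19) (by norm_num) h11S hrS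
  have hKS : IsKnownSimple' S := hcf S
  rcases name_two tb (F := F) hSna hKS
    (((fth_TE6 (F := F) 2).sub B.subtype B.subtype_injective).sub S.subtype S.subtype_injective)
    tab_209 h209 hdS with ⟨k, hk, ⟨Φ⟩⟩ | ⟨g, hg, hgS⟩ | ⟨g, hg, hch⟩
  · exfalso
    have h1 := alt_lt hk Φ hdS
    have h2 := Cfsg.Agent.H290.ElRich.le_of_dvd_alt (show Nat.Prime 19 by norm_num) (by omega) Φ hrS
    omega
  · exfalso
    obtain rfl := isJ_iff (spor_209 _ hgS (Nat.mod_eq_zero_of_dvd h209) (Nat.mod_eq_zero_of_dvd hdS))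
    have hc : Nat.card S = 175560 := by
      have h : den .j1 * Nat.card S = num .j1 := hg.eq
      have h1 : den .j1 = 1 := by decide +kernel
      have h2 : num .j1 = 175560 := by decide +kernel
      rwa [h1, h2, one_mul] at h
    obtain ⟨j, i, hj, hji, hi, -⟩ := sylow_index hbS hrS (by rw [hc]; norm_num)
    have hj9 : j ≤ 9 := Nat.le_of_dvd (by norm_num) hj
    rw [hc] at hji
    interval_cases j <;> omega
  · have hdT : Nat.card S ∣ num (.te6 2) := hdS.trans (by decide +kernel)
    obtain rfl := charp_te6_1018 (p := 2) (f := 1) Nat.prime_two le_rfl hg.cond hch hg.eq hdT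
      (fun s hs _ => by rw [eq11 hs]; exact h11S) (fun s hs _ => by rw [eq19 hs]; exact hrS)
    exact eq_top_of_name hT hg

end Cfsg.Agent.H190.Cov.Two
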