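import Cfsg.Agent.H190.Cov.Pre
import Cfsg.Agent.H325.Same.ExcPair
import Cfsg.Agent.H563.KG.KTE6

/-!
# `²E₆(2)`: simple sections and their names (S2499)

* `one_section` : the simple normal subgroup from one isolated prime;
* `name_two` : the name of a simple group of order dividing `|²E₆(2)|`.
-/

set_option autoImplicit false

namespace Cfsg.Agent.H190.Cov.Two

open Cfsg Cfsg.Agent.OrdDiv Cfsg.Agent.H436 Cfsg.Agent.H902 Cfsg.Agent.H902.Names Cfsg.Agent.H915.GN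
  Cfsg.Agent.H290.ElReg Cfsg.Agent.H290.ElTab Cfsg.Agent.H290.ElCross Cfsg.Agent.H264.FKS Cfsg.Agent.H56.Exc
  Cfsg.Agent.H325.Loc Cfsg.Agent.H563.KG Cfsg.Agent.H190.Odd Cfsg.Agent.H190.Cov

/-- **The simple normal subgroup** from one prime. -/
theorem one_section (hcyc : CycFixSolv.{0}) {n p : ℕ} (hp : p.Prime) {F : Type} [Field F] [CharP F p]
    {T : Type} [Group T] [Finite T] (hrep : Fth n F T) {r m e : ℕ} (hb : Big T r m e) (hpiso : PIso p r T)
    {B : Subgroup T} (hrB : r ∣ Nat.card B) (hsep : ¬ Nat.card B ∣ e * m)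
    (hgood : ∀ t : ℕ, t.Prime → t ≠ p → t ≠ r → t ∣ Nat.card B → Good B n t ∨ KillB B t) :
    ∃ (S : Subgroup B) (_ : S.Normal) (_ : IsSimpleGroup S), ¬ IsMulCommutative S ∧
      Big S r m e ∧ r ∣ Nat.card S ∧ ¬ r ∣ S.index ∧ S.index ∣ e * m := by
  have := Fact.mk hp
  let Fa : ℕ → ℕ → ℕ → Prop := fun r' m' e' => r' = r ∧ m' = m ∧ e' = e
  have hrf : RFam ↥B Fa := by
    refine ⟨?_, ?_, ?_⟩
    · rintro _ _ _ ⟨rfl, rfl, rfl⟩; exact hb.subgroup B
    · rintro _ _ _ ⟨rfl, rfl, rfl⟩; exact hrB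
    · rintro _ _ _ ⟨rfl, rfl, rfl⟩; exact hsep
  obtain ⟨τ, hτ⟩ := hrep.sub B.subtype B.subtype_injective
  have hred : Red ↥B (Pr Fa) := by
    refine red_kill (p := p) hcyc (fun A hA hAp => pcore_of_piso (hpiso.sub B) hrB A hA hAp)
      (⟨m, e, rfl, rfl, rfl⟩ : Pr Fa r) hb.prime hrB
      (fun x hx => (hb.subgroup B).cyc x hx) fun t ht htp htn htB => ?_
    rcases hgood t ht htp (fun h => htn ⟨m, e, h, rfl, rfl⟩) htB with h | h
    · exact Good.kill hτ h ht htp (by rw [Fintype.card_fin])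
    · exact h
  obtain ⟨S, hSn, hSs, hSna, hS⟩ := hrf.exists_full hcyc hred (r₁ := r) (m₁ := m) (e₁ := e) ⟨rfl, rfl, rfl⟩
  exact ⟨S, hSn, hSs, hSna, hS r m e ⟨rfl, rfl, rfl⟩⟩

/-- the order of `²E₆(2)` -/
def G0 : ℕ := 2 ^ 36 * 3 ^ 9 * 5 ^ 2 * 7 ^ 2 * 11 * 13 * 17 * 19

/-- the test of a class of orders -/
def tab (m : ℕ) : Bool := (reg 78).all fun x =>
  x.2.1 == 2 || !((OL x.1 (x.2.1 ^ x.2.2)) % m == 0 &&
    ((Art.dd x.1 (x.2.1 ^ x.2.2)) * G0) % (OL x.1 (x.2.1 ^ x.2.2)) == 0)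

theorem tab_143 : tab 143 = true := by decide +kernel
theorem tab_209 : tab 209 = true := by decide +kernel

def isS : Grp → Bool
  | .suz => true
  | .fi22 => true
  | _ => false

def isJ : Grp → Bool
  | .j1 => true
  | _ => false

theorem spor_143 : ∀ x ∈ Cfsg.Agent.OrdDiv.spor, x.2 % 143 = 0 → G0 % x.2 = 0 → isS x.1 = true := by decide +kernel
theorem spor_209 : ∀ x ∈ Cfsg.Agent.OrdDiv.spor, x.2 % 209 = 0 → G0 % x.2 = 0 → isJ x.1 = true := by decide +kernel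

theorem isS_iff {g : Grp} (h : isS g = true) : g = .suz ∨ g = .fi22 := by
  cases g <;> first | exact Or.inl rfl | exact Or.inr rfl | exact absurd h (by decide) | simp [isS] at h

theorem isJ_iff {g : Grp} (h : isJ g = true) : g = .j1 := by
  cases g <;> first | rfl | simp [isJ] at h

/-- **The name.** -/
theorem name_two (tb : OrderTable.{0}) {F : Type} [Field F] [CharP F 2] {S : Type} [Group S] [Finite S]
    [IsSimpleGroup S] (hna : ¬ IsMulCommutative S) (hK : IsKnownSimple' S) (hrep : Fth 78 F S) {m : ℕ}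
    (ht : tab m = true) (hm : m ∣ Nat.card S) (hd : Nat.card S ∣ G0) :
    (∃ k, 5 ≤ k ∧ Nonempty (S ≃* alternatingGroup (Fin k))) ∨
      (∃ g : Grp, IsNamed g S ∧ (g, Nat.card S) ∈ Cfsg.Agent.OrdDiv.spor) ∨ ∃ g, IsNamed g S ∧ HasChar 2 g := by
  have hna' : ¬ ∀ a b : S, a * b = b * a := fun h => hna ⟨⟨h⟩⟩
  obtain ⟨g, hgS⟩ := exists_named tb hK hna'
  rcases Cfsg.Agent.H192.Singer.cases_name hgS.cond with ⟨k, rfl⟩ | hsp | ⟨l, hl, hch⟩
  · exact Or.inl ⟨k, hgS.cond, hgS.real⟩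
  · right; left
    refine ⟨g, hgS, ?_⟩
    have h1 := Cfsg.Agent.H192.Singer.spor_mem hsp
    have h2 : Nat.card S = ordN g := hgS.ord
    rw [h2]; exact h1
  · right; right
    by_cases hpl : 2 = l
    · subst hpl
      exact ⟨g, hgS, hch⟩
    · exfalso
      obtain ⟨X, f₁, h1, h2, -⟩ := exists_lie hl hgS hch
      have hlF : (l : F) ≠ 0 := by
        intro h
        exact hpl ((Nat.prime_dvd_prime_iff_eq Nat.prime_two hl).1 ((CharP.cast_eq_zero_iff F 2 l).1 h))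
      have h3 := lb_le hna' (by norm_num) hrep h1 hgS.real h2 hlF
      obtain ⟨hl', ha, hokX, heq⟩ := h2
      have hreg := mem_reg (by norm_num) hl' ha hokX h3
      have hM : OL X (l ^ f₁) = Art.dd X (l ^ f₁) * Nat.card S := by unfold OL; rw [numL_eq]; exact heq.symm
      have h4 := List.all_eq_true.1 ht (X, (l, f₁)) hreg
      simp only [Bool.or_eq_true, beq_iff_eq, Bool.not_eq_true', Bool.and_eq_false_imp, beq_eq_false_iff_ne] at h4
      rcases h4 with h4 | h4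
      · exact hpl h4.symm
      · exact h4 (Nat.mod_eq_zero_of_dvd (hM ▸ hm.mul_left _))
          (Nat.mod_eq_zero_of_dvd (hM ▸ Nat.mul_dvd_mul_left _ hd))

end Cfsg.Agent.H190.Cov.Two
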