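import Cfsg.Agent.H563.KG.Wt

/-!
# Weights of elementary abelian `3`-groups with values closed under squaring (S2499, for `²E₆(2)`)

* `eq_one_of_sq` : elements of order 11 and 13, the latter acting freely, and `A = [A, x]⟨b⟩`: then the degree is
  at least 79.
-/

set_option autoImplicit false

namespace Cfsg.Agent.H190.Cov.Two

open Module Cfsg.Agent.H912.Bd Cfsg.Agent.H290.ElWt

theorem even_card {Ω : Type*} [Finite Ω] (s : Ω → Ω) (h1 : ∀ c, s (s c) = c) (h2 : ∀ c, s c ≠ c) :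
    2 ∣ Nat.card Ω := by
  classical
  have := Fintype.ofFinite Ω
  have h3 := Equiv.Perm.card_fixedPoints_modEq (α := Ω) (f := (s : Function.End Ω)) (p := 2) (n := 1) (by
    funext c
    exact h1 c)
  have h4 : Fintype.card (Function.fixedPoints (s : Ω → Ω)) = 0 := by
    rw [Fintype.card_eq_zero_iff]
    exact ⟨fun ⟨c, hc⟩ => h2 c hc⟩
  rw [Nat.card_eq_fintype_card]
  exact (Nat.modEq_zero_iff_dvd).1 (h3.trans (by
    have h5 : Fintype.card (Function.fixedPoints (s : Function.End Ω)) = 0 := h4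
    rw [h5]))

section

variable {K : Type*} [Field K] {V : Type*} [AddCommGroup V] [Module K V] [FiniteDimensional K V] {G : Type*} [Group G]
  [Finite G] (ρ : G →* Module.End K V) {A : Subgroup G} [A.Normal] (hA : ∀ a ∈ A, ∀ b ∈ A, a * b = b * a)
  (hN : ((3 : ℕ) : K) ≠ 0) (hA3 : ∀ a ∈ A, a ^ 3 = 1)
  (hsq : ∀ χ : A → K, wt ρ A χ ≠ ⊥ → wt ρ A (fun a => χ a ^ 2) ≠ ⊥)

omit [FiniteDimensional K V] [Finite G] [A.Normal] in
theorem wt_pow {χ : A → K} (h : wt ρ A χ ≠ ⊥) (a : A) (i : ℕ) : χ (a ^ i) = χ a ^ i := by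
  induction i with
  | zero => rw [pow_zero, pow_zero, wt_one ρ h]
  | succ i ih => rw [pow_succ, wt_mul ρ h, ih, pow_succ]

omit [FiniteDimensional K V] [Finite G] [A.Normal] in
include hA3 in
theorem wt_cube {χ : A → K} (h : wt ρ A χ ≠ ⊥) (a : A) : χ a ^ 3 = 1 := by
  rw [← wt_pow ρ h, show a ^ 3 = 1 from Subtype.ext (hA3 a a.2), wt_one ρ h]

/-- squaring -/
def sq2 (hA3 : ∀ a ∈ A, a ^ 3 = 1) (hsq : ∀ χ : A → K, wt ρ A χ ≠ ⊥ → wt ρ A (fun a => χ a ^ 2) ≠ ⊥)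
    (χ : Wts ρ A) : Wts ρ A :=
  ⟨fun a => χ.1 a ^ 2, hsq _ χ.2.1, by
    obtain ⟨a, ha⟩ := χ.2.2
    refine ⟨a, fun h => ha ?_⟩
    have h3 := wt_cube ρ hA3 χ.2.1 a
    have h' : χ.1 a ^ 2 = 1 := h
    rw [pow_succ, h', one_mul] at h3
    exact h3⟩

omit [FiniteDimensional K V] [Finite G] [A.Normal] in
theorem sq2_sq2 (χ : Wts ρ A) : sq2 ρ hA3 hsq (sq2 ρ hA3 hsq χ) = χ := by
  apply Subtype.ext
  funext a
  show (χ.1 a ^ 2) ^ 2 = χ.1 a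
  have h3 := wt_cube ρ hA3 χ.2.1 a
  calc (χ.1 a ^ 2) ^ 2 = χ.1 a ^ 3 * χ.1 a := by ring
    _ = χ.1 a := by rw [h3, one_mul]

omit [FiniteDimensional K V] [Finite G] [A.Normal] in
theorem sq2_ne (χ : Wts ρ A) : sq2 ρ hA3 hsq χ ≠ χ := by
  intro h
  obtain ⟨a, ha⟩ := χ.2.2
  have h1 : χ.1 a ^ 2 = χ.1 a := congrFun (congrArg Subtype.val h) a
  have h3 := wt_cube ρ hA3 χ.2.1 a
  apply ha
  have h4 : χ.1 a ≠ 0 := by
    intro h0
    rw [h0] at h3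
    norm_num at h3
  rw [pow_two] at h1
  exact mul_left_cancel₀ h4 (by rw [h1, mul_one])

include hA hN hA3 hsq in
/-- **Elements of order 11 and 13.** -/
theorem eq_one_of_sq [IsAlgClosed K] {x y : G} (hx : orderOf x = 11) (hy : orderOf y = 13)
    (fy : ∀ a ∈ A, y * a = a * y → a = 1) {b : G} (hbA : b ∈ A)
    (hb : ∀ a ∈ A, ∃ c ∈ A, ∃ i : ℕ, a = x * c * x⁻¹ * c⁻¹ * b ^ i) (hdim : finrank K V ≤ 78) :
    ∀ a ∈ A, ρ a = 1 := by
  obtain ⟨hfin, hle⟩ := finite_wts ρ hA hN hA3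
  have h13 : 13 ∣ Nat.card (Wts ρ A) := Cfsg.Agent.H290.ElWt.dvd_card_wts ρ hA hN hA3 (by norm_num) hy fy
  have h2 : 2 ∣ Nat.card (Wts ρ A) := even_card (sq2 ρ hA3 hsq) (sq2_sq2 ρ hA3 hsq) (sq2_ne ρ hA3 hsq)
  have h26 : 26 ∣ Nat.card (Wts ρ A) := Nat.Coprime.mul_dvd_of_dvd_of_dvd (m := 2) (n := 13) (by norm_num) h2 h13
  have : Fact (Nat.Prime 11) := ⟨by norm_num⟩
  have hP : IsPGroup 11 (Subgroup.zpowers x) := IsPGroup.of_card (n := 1) (by rw [Nat.card_zpowers, hx, pow_one])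
  have h1 := hP.card_modEq_card_fixedPoints (Wts ρ A)
  -- fixed weights
  have hval : ∀ χ : Wts ρ A, χ ∈ MulAction.fixedPoints (Subgroup.zpowers x) (Wts ρ A) → ∀ a : A, ∃ i : ℕ,
      a = a ∧ ∀ χ' : Wts ρ A, χ' ∈ MulAction.fixedPoints (Subgroup.zpowers x) (Wts ρ A) →
        χ'.1 a = χ'.1 ⟨b, hbA⟩ ^ i := by
    intro χ _ a
    obtain ⟨c, hc, i, hi⟩ := hb a a.2
    refine ⟨i, rfl, fun χ' hχ' => ?_⟩
    have hxc : x * c * x⁻¹ ∈ A := (inferInstance : A.Normal).conj_mem c hc x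
    have h3 : x⁻¹ • χ' = χ' := hχ' ⟨x⁻¹, inv_mem (Subgroup.mem_zpowers x)⟩
    have h4 : tw A x⁻¹ χ'.1 = χ'.1 := congrArg Subtype.val h3
    have h5 : χ'.1 ⟨x * c * x⁻¹, hxc⟩ = χ'.1 ⟨c, hc⟩ := by
      have h6 := congrFun h4 ⟨c, hc⟩
      rw [← h6]
      exact congrArg χ'.1 (Subtype.ext (by simp))
    have h7 : a = ⟨x * c * x⁻¹, hxc⟩ * ⟨c, hc⟩⁻¹ * ⟨b, hbA⟩ ^ i := Subtype.ext (by rw [hi]; simp)
    have h8 : χ'.1 ⟨c, hc⟩ * χ'.1 (⟨c, hc⟩⁻¹) = 1 := by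
      rw [← wt_mul ρ χ'.2.1, mul_inv_cancel, wt_one ρ χ'.2.1]
    rw [h7, wt_mul ρ χ'.2.1, wt_mul ρ χ'.2.1, h5, h8, one_mul, wt_pow ρ χ'.2.1]
  have hfix : Nat.card (MulAction.fixedPoints (Subgroup.zpowers x) (Wts ρ A)) = 0 ∨
      Nat.card (MulAction.fixedPoints (Subgroup.zpowers x) (Wts ρ A)) = 2 := by
    by_cases hE : IsEmpty (MulAction.fixedPoints (Subgroup.zpowers x) (Wts ρ A))
    · left; exact Nat.card_of_isEmpty
    · right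
      rw [not_isEmpty_iff] at hE
      obtain ⟨χ, hχ⟩ := hE
      have hχ2 : sq2 ρ hA3 hsq χ ∈ MulAction.fixedPoints (Subgroup.zpowers x) (Wts ρ A) := by
        intro z
        have h3 := hχ z
        apply Subtype.ext
        funext a
        have h4 := congrFun (congrArg Subtype.val h3) a
        exact congrArg (· ^ 2) h4
      rw [Nat.card_eq_two_iff]
      refine ⟨⟨χ, hχ⟩, ⟨_, hχ2⟩, fun h => sq2_ne ρ hA3 hsq χ (congrArg Subtype.val h).symm, ?_⟩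
      rw [Set.eq_univ_iff_forall]
      rintro ⟨ψ, hψ⟩
      have hkey : ∀ χ' ψ' : Wts ρ A, χ' ∈ MulAction.fixedPoints (Subgroup.zpowers x) (Wts ρ A) →
          ψ' ∈ MulAction.fixedPoints (Subgroup.zpowers x) (Wts ρ A) → χ'.1 ⟨b, hbA⟩ = ψ'.1 ⟨b, hbA⟩ → χ' = ψ' := by
        intro χ' ψ' h h' he
        apply Subtype.ext
        funext a
        obtain ⟨i, -, hi⟩ := hval χ' h a
        rw [hi χ' h, hi ψ' h', he]
      have hb1 : ∀ χ' : Wts ρ A, χ' ∈ MulAction.fixedPoints (Subgroup.zpowers x) (Wts ρ A) → χ'.1 ⟨b, hbA⟩ ≠ 1 := by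
        intro χ' h he
        obtain ⟨a, ha⟩ := χ'.2.2
        obtain ⟨i, -, hi⟩ := hval χ' h a
        apply ha
        rw [hi χ' h, he, one_pow]
      -- the values at `b` are primitive cube roots of unity
      have hroot : ∀ u : K, u ^ 3 = 1 → u ≠ 1 → u ^ 2 + u + 1 = 0 := by
        intro u h3 h1'
        have h4 : (u - 1) * (u ^ 2 + u + 1) = 0 := by linear_combination h3
        exact (mul_eq_zero.1 h4).resolve_left (sub_ne_zero.2 h1')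
      have hu := hroot _ (wt_cube ρ hA3 χ.2.1 ⟨b, hbA⟩) (hb1 χ hχ)
      have hv := hroot _ (wt_cube ρ hA3 ψ.2.1 ⟨b, hbA⟩) (hb1 ψ hψ)
      by_cases he : ψ.1 ⟨b, hbA⟩ = χ.1 ⟨b, hbA⟩
      · left
        exact Subtype.ext (hkey ψ χ hψ hχ he)
      · right
        refine Subtype.ext (hkey ψ _ hψ hχ2 ?_)
        show ψ.1 ⟨b, hbA⟩ = χ.1 ⟨b, hbA⟩ ^ 2
        have h4 : (ψ.1 ⟨b, hbA⟩ - χ.1 ⟨b, hbA⟩) * (ψ.1 ⟨b, hbA⟩ + χ.1 ⟨b, hbA⟩ + 1) = 0 := by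
          linear_combination hv - hu
        have h5 := (mul_eq_zero.1 h4).resolve_left (sub_ne_zero.2 he)
        have h6 : (ψ.1 ⟨b, hbA⟩ + χ.1 ⟨b, hbA⟩ + 1) - (χ.1 ⟨b, hbA⟩ ^ 2 + χ.1 ⟨b, hbA⟩ + 1) = 0 := by
          rw [h5, hu, sub_zero]
        linear_combination h6
  obtain ⟨m, hm⟩ := h26
  have hle' : Nat.card (Wts ρ A) ≤ 78 := hle.trans hdim
  have h4 : Nat.card (Wts ρ A) = 0 := by
    unfold Nat.ModEq at h1
    rcases hfix with h | h <;> rw [h] at h1 <;> rw [hm] at h1 hle' ⊢ <;> omega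
  have h5 : IsEmpty (Wts ρ A) := by
    rcases Nat.card_eq_zero.1 h4 with h | h
    · exact h
    · exact absurd hfin (not_finite_iff_infinite.2 h)
  intro a ha
  by_contra hne'
  obtain ⟨χ, hχ, hχa⟩ := exists_wt ρ hA hN hA3 (c := ⟨a, ha⟩) hne'
  exact h5.false ⟨χ, hχ, ⟨_, hχa⟩⟩

end

end Cfsg.Agent.H190.Cov.Two
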