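import Cfsg.Agent.H190.Cov.Two.K19
import Cfsg.Agent.H190.Cov.Two.Wt3

/-!
# `²E₆(2)`: normal `3`-subgroups of the subgroups of order divisible by `13 * 11` (S2499)

* `sq_closed` : the weights of the adjoint module are closed under squaring;
* `killB3` : no nontrivial normal elementary abelian `3`-subgroup.
-/

set_option autoImplicit false

namespace Cfsg.Agent.H190.Cov.Two

open Cfsg Cfsg.Agent.OrdDiv Cfsg.Agent.H436 Cfsg.Agent.H902 Cfsg.Agent.H290.ElReg Cfsg.Agent.H290.ElTab
  Cfsg.Agent.H56.Exc Cfsg.Agent.H325.Loc Cfsg.Agent.H915.GN Cfsg.Agent.H264.FKS Cfsg.Agent.H325.Same Cfsg.Agent.H325.IsoExc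
  Cfsg.Agent.H563.KG Cfsg.Agent.H190.Odd Cfsg.Agent.H912.Bd Cfsg.Agent.H290.ElWt
open Cfsg.Agent.ChevalleyStructure.TwE6Basic (sg)
open Cfsg.Agent.ChevalleyStructure.GraphSymm (symmE6)

/-- the weights are closed under squaring if the representation is equivalent to its Frobenius twist -/
theorem wt_sq {F : Type*} [Field F] {ι : Type*} [Fintype ι] [DecidableEq ι] {G : Type*} [Group G] {τ : G →* GL ι F}
    {φ : AlgebraicClosure F →+* AlgebraicClosure F} (hφ2 : ∀ t, φ t = t ^ 2) {P : GL ι (AlgebraicClosure F)}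
    (hfix : ∀ g : G, P * Matrix.GeneralLinearGroup.map φ (Matrix.GeneralLinearGroup.map
      (algebraMap F (AlgebraicClosure F)) (τ g)) * P⁻¹ = Matrix.GeneralLinearGroup.map
      (algebraMap F (AlgebraicClosure F)) (τ g)) (A : Subgroup G) (χ : A → AlgebraicClosure F)
    (h : wt (cl τ) A χ ≠ ⊥) : wt (cl τ) A (fun a => χ a ^ 2) ≠ ⊥ := by
  obtain ⟨v, hv, hv0⟩ := Submodule.exists_mem_ne_zero_of_ne_bot h
  rw [mem_wt] at hv
  have hfix' : ∀ a : A, ((algebraMap F (AlgebraicClosure F)).mapMatrix (τ a : Matrix ι ι F)) *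
      (P : Matrix ι ι (AlgebraicClosure F)) = (P : Matrix ι ι (AlgebraicClosure F)) *
        φ.mapMatrix ((algebraMap F (AlgebraicClosure F)).mapMatrix (τ a : Matrix ι ι F)) := by
    intro a
    have h2 := hfix a
    rw [mul_inv_eq_iff_eq_mul] at h2
    exact (congrArg Units.val h2).symm
  set w : ι → AlgebraicClosure F := (P : Matrix ι ι (AlgebraicClosure F)).mulVec (φ ∘ v) with hw
  have hmem : w ∈ wt (cl τ) A (fun a => χ a ^ 2) := by
    rw [mem_wt]
    intro a
    have h1 : ((algebraMap F (AlgebraicClosure F)).mapMatrix (τ a : Matrix ι ι F)).mulVec v = χ a • v := hv a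
    show ((algebraMap F (AlgebraicClosure F)).mapMatrix (τ a : Matrix ι ι F)).mulVec w = χ a ^ 2 • w
    rw [hw, Matrix.mulVec_mulVec, hfix', ← Matrix.mulVec_mulVec, ← Matrix.mulVec_smul]
    congr 1
    funext i
    have h2 := RingHom.map_mulVec φ ((algebraMap F (AlgebraicClosure F)).mapMatrix (τ a : Matrix ι ι F)) v i
    rw [h1] at h2
    rw [Pi.smul_apply, smul_eq_mul, map_mul, hφ2 (χ a)] at h2
    exact h2.symm
  intro hb
  rw [hb, Submodule.mem_bot] at hmem
  have h1 : (φ ∘ v) = 0 := by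
    have h2 := congrArg ((P⁻¹ : GL ι (AlgebraicClosure F)) : Matrix ι ι (AlgebraicClosure F)).mulVec hmem
    rwa [hw, Matrix.mulVec_mulVec, ← Units.val_mul, inv_mul_cancel, Units.val_one, Matrix.one_mulVec,
      Matrix.mulVec_zero] at h2
  apply hv0
  funext i
  have h2 := congrFun h1 i
  exact (map_eq_zero φ).1 h2

variable {F : Type} [Field F] [Fintype F] (hK : Fintype.card F = 2 ^ 2)

/-- the inclusion -/
def inc (F : Type) [Field F] [Fintype F] (B : Subgroup ↥(Lie.twistedE6 F 2)) : ↥B →* GL Lie.chevE6.Idx F :=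
  (Lie.twistedE6 F 2).subtype.comp B.subtype

include hK in
/-- **The weights are closed under squaring.** -/
theorem sq_closed (B : Subgroup ↥(Lie.twistedE6 F 2)) (A : Subgroup ↥B) (χ : A → AlgebraicClosure F)
    (h : wt (cl (inc F B)) A χ ≠ ⊥) : wt (cl (inc F B)) A (fun a => χ a ^ 2) ≠ ⊥ := by
  have : CharP F 2 := charP_of_pow (a := 2) Nat.prime_two hK
  have : CharP (AlgebraicClosure F) 2 := charP_of_injective_algebraMap (algebraMap F _).injective 2
  have : Fact (Nat.Prime 2) := ⟨Nat.prime_two⟩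
  have hφ2 : ∀ t, frobenius (AlgebraicClosure F) 2 t = t ^ 2 := fun t => frobenius_def 2 t
  exact wt_sq (P := symmE6.P (AlgebraicClosure F)) hφ2 (fun g =>
    (BpExc.EmbInst.twE6_fix (f := algebraMap F (AlgebraicClosure F)) pp2 hK hφ2
      (x := inc F B g) ((g : ↥B) : ↥(Lie.twistedE6 F 2)).2).2) A χ h

end Cfsg.Agent.H190.Cov.Two
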