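import Cfsg.Agent.H190.Cov.Two.Rad3

/-!
# `²E₆(2)`: normal `3`-subgroups of the subgroups of order divisible by `13 * 11`, continued (S2499)
-/

set_option autoImplicit false

namespace Cfsg.Agent.H190.Cov.Two

open Cfsg Cfsg.Agent.OrdDiv Cfsg.Agent.H436 Cfsg.Agent.H902 Cfsg.Agent.H290.ElReg Cfsg.Agent.H290.ElTab
  Cfsg.Agent.H56.Exc Cfsg.Agent.H325.Loc Cfsg.Agent.H915.GN Cfsg.Agent.H264.FKS Cfsg.Agent.H325.Same Cfsg.Agent.H325.IsoExc
  Cfsg.Agent.H563.KG Cfsg.Agent.H190.Odd Cfsg.Agent.H912.Bd Cfsg.Agent.H290.ElWt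

variable {F : Type} [Field F] [Fintype F] (hK : Fintype.card F = 2 ^ 2)

include hK in
/-- **The Sylow 3-subgroups do not have exponent 3.** -/
theorem no_exp3 (tb : OrderTable.{0}) (A : Subgroup ↥(Lie.twistedE6 F 2)) (hA : Nat.card A = 3 ^ 9)
    (hA3 : ∀ a ∈ A, a ^ 3 = 1) : False := by
  have hfin : Finite ↥(Lie.twistedE6 F 2) := inferInstance
  have : Fact (Nat.Prime 3) := ⟨Nat.prime_three⟩
  have hcard := card_two hK tb
  have hAP : IsPGroup 3 A := IsPGroup.of_card hA
  obtain ⟨Q, hQ⟩ := hAP.exists_le_sylow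
  have hQA : (Q : Subgroup ↥(Lie.twistedE6 F 2)) = A := by
    refine (Subgroup.eq_of_le_of_card_ge hQ ?_).symm
    obtain ⟨k, hk⟩ := IsPGroup.iff_card.1 Q.2
    have h1 : k ≤ 9 := pow_le3 (by rw [← hk, ← hcard]; exact Subgroup.card_subgroup_dvd_card _)
    rw [hk, hA]
    exact Nat.pow_le_pow_right (by norm_num) h1
  -- all 3-elements have order dividing 3
  have h3 : ∀ (g : ↥(Lie.twistedE6 F 2)) (m : ℕ), g ^ 3 ^ m = 1 → g ^ 3 = 1 := by
    intro g m hg
    have hP : IsPGroup 3 (Subgroup.zpowers g) := by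
      rintro ⟨_, i, rfl⟩
      refine ⟨m, Subtype.ext ?_⟩
      show (g ^ i) ^ 3 ^ m = 1
      rw [← zpow_natCast, ← zpow_mul, mul_comm, zpow_mul, zpow_natCast, hg, one_zpow]
    obtain ⟨R, hR⟩ := hP.exists_le_sylow
    obtain ⟨s, hs⟩ := MulAction.exists_smul_eq ↥(Lie.twistedE6 F 2) R Q
    have h4 : s * g * s⁻¹ ∈ (Q : Subgroup ↥(Lie.twistedE6 F 2)) := by
      rw [← hs, Sylow.coe_subgroup_smul]
      exact ⟨g, hR (Subgroup.mem_zpowers g), rfl⟩
    have h5 := hA3 _ (hQA ▸ h4)
    rw [conj_pow, mul_inv_eq_one, mul_eq_left] at h5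
    exact h5
  have hb := big19 hK
  have hb' : Big ↥(Lie.twistedE6 F 2) 19 19 3 := by
    refine ⟨hb.prime, hb.cyc, hb.card, fun x y hx hy => ?_, by norm_num⟩
    have h9 := hb.aut x y hx hy
    have h1 : y ^ 9 ∈ Subgroup.centralizer ({x} : Set ↥(Lie.twistedE6 F 2)) :=
      Subgroup.mem_centralizer_singleton_iff.2 h9
    have h2 : (y ^ 9) ^ 19 = 1 := by
      have h4 := (orderOf_dvd_natCard (⟨y ^ 9, h1⟩ :
        Subgroup.centralizer ({x} : Set ↥(Lie.twistedE6 F 2)))).trans (hb.card x hx)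
      rw [Subgroup.orderOf_mk] at h4
      exact orderOf_dvd_iff_pow_eq_one.1 h4
    have h5 : (y ^ 19) ^ 3 = 1 := by
      refine h3 _ 2 ?_
      rw [← pow_mul, show 19 * 3 ^ 2 = 9 * 19 by norm_num, pow_mul]
      exact h2
    have h6 : y ^ 3 = (y ^ 9) ^ 13 := by
      rw [← pow_mul, show 9 * 13 = 19 * 3 * 2 + 3 by norm_num, pow_add, pow_mul (y) (19 * 3) 2, pow_mul y 19 3, h5,
        one_pow, one_mul]
    rw [h6]
    exact h9.pow_left 13
  obtain ⟨j, i, hj, hji, hi, -⟩ := sylow_index hb' (by rw [hcard]; decide +kernel) (by rw [hcard]; decide +kernel)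
  have hj9 : j ≤ 3 := Nat.le_of_dvd (by norm_num) hj
  have hG : G0 = 76532479683774853939200 := by decide +kernel
  rw [hcard, hG] at hji
  interval_cases j
  · omega
  · omega
  · norm_num at hj
  · omega

/-- an element of order 13 does not normalise a subgroup of order 11 -/
theorem no_norm {G : Type*} [Group G] [Finite G] (hb : Big G 13 13 12) {P : Subgroup G} (hP : Nat.card P = 11) :
    ¬ 13 ∣ Nat.card ↥(Subgroup.normalizer (P : Set G)) := by
  intro h
  have : Fact (Nat.Prime 13) := ⟨by norm_num⟩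
  have : Fact (Nat.Prime 11) := ⟨by norm_num⟩
  obtain ⟨z, hz⟩ := exists_prime_orderOf_dvd_card' 13 h
  have hN : ((P : Subgroup G).subgroupOf (Subgroup.normalizer (P : Set G))).Normal := Subgroup.normal_in_normalizer
  have h1 := H563.KG.dvd_card_sub_one (A := P.subgroupOf (Subgroup.normalizer (P : Set G))) (by norm_num) hz (by
    intro a ha hc
    have h2 := free_of_big (t := 11) hb (by norm_num) (by norm_num) (z : G)
      (by rw [Subgroup.orderOf_coe, hz]; norm_num) (by rw [Subgroup.orderOf_coe, hz]) (a : G) (by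
        have h3 := pow_card_eq_one' (x := (⟨(a : G), ha⟩ : P))
        rw [hP] at h3
        exact congrArg Subtype.val h3) (congrArg Subtype.val hc)
    exact Subtype.ext h2)
  rw [Nat.card_congr (Subgroup.subgroupOfEquivOfLe (Subgroup.le_normalizer (H := P))).toEquiv, hP] at h1
  norm_num at h1

/-- **Frattini**: the elements of order 11 do not centralise a nontrivial normal 3-subgroup. -/
theorem no_cent {G : Type*} [Group G] [Finite G] (hb : Big G 13 13 12) (h13 : 13 ∣ Nat.card G)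
    (h121 : ¬ 11 ^ 2 ∣ Nat.card G) {A : Subgroup G} (hAn : A.Normal) (hA0 : A ≠ ⊥) (hA3 : ∀ a ∈ A, a ^ 3 = 1) :
    ¬ 11 ∣ Nat.card ↥(Subgroup.centralizer (A : Set G)) := by
  intro h
  have : Fact (Nat.Prime 11) := ⟨by norm_num⟩
  have : Fact (Nat.Prime 13) := ⟨by norm_num⟩
  have hC : (Subgroup.centralizer (A : Set G)).Normal := inferInstance
  have h13C : ¬ 13 ∣ Nat.card ↥(Subgroup.centralizer (A : Set G)) := by
    intro h1
    obtain ⟨z, hz⟩ := exists_prime_orderOf_dvd_card' 13 h1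
    obtain ⟨a, ha, ha1⟩ := (Subgroup.bot_or_exists_ne_one A).resolve_left hA0
    apply ha1
    refine free_of_big (t := 3) hb (by norm_num) (by norm_num) (z : G)
      (by rw [Subgroup.orderOf_coe, hz]; norm_num) (by rw [Subgroup.orderOf_coe, hz]) a (hA3 a ha) ?_
    exact ((Subgroup.mem_centralizer_iff.1 z.2) a ha).symm
  obtain ⟨P⟩ : Nonempty (Sylow 11 ↥(Subgroup.centralizer (A : Set G))) := inferInstance
  have hP : Nat.card ((P : Subgroup ↥(Subgroup.centralizer (A : Set G))).map (Subgroup.subtype _)) = 11 := by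
    rw [Subgroup.card_map_of_injective (Subgroup.subtype_injective _)]
    obtain ⟨k, hk⟩ := IsPGroup.iff_card.1 P.2
    have h1 : k ≤ 1 := by
      by_contra hk1
      apply h121
      have h2 : 11 ^ 2 ∣ Nat.card (P : Subgroup ↥(Subgroup.centralizer (A : Set G))) := by
        rw [hk]; exact pow_dvd_pow _ (by omega)
      exact h2.trans ((Subgroup.card_subgroup_dvd_card _).trans (Subgroup.card_subgroup_dvd_card _))
    have h2 : k ≠ 0 := by
      rintro rfl
      have h3 := P.dvd_card_of_dvd_card h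
      rw [hk, pow_zero] at h3
      norm_num at h3
    obtain rfl : k = 1 := by omega
    rw [hk, pow_one]
  have h1 := Sylow.normalizer_sup_eq_top P
  have h2 := no_norm hb hP
  have h3 : 13 ∣ Nat.card ↥(Subgroup.centralizer (A : Set G) ⊔ Subgroup.normalizer
      (((P : Subgroup ↥(Subgroup.centralizer (A : Set G))).map (Subgroup.subtype _) : Subgroup G) : Set G)) := by
    rw [sup_comm, h1, Subgroup.card_top]
    exact h13
  have h4 := h3.trans (card_sup_dvd _ _)
  rcases (Nat.Prime.dvd_mul (by norm_num)).1 h4 with h5 | h5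
  · exact h13C h5
  · exact h2 h5

end Cfsg.Agent.H190.Cov.Two
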