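import Cfsg.Agent.H190.Cov.Two.Rad3b

/-!
# `²E₆(2)`: normal `3`-subgroups of the subgroups of order divisible by `13 * 11`, conclusion (S2499)
-/

set_option autoImplicit false

namespace Cfsg.Agent.H190.Cov.Two

open Cfsg Cfsg.Agent.OrdDiv Cfsg.Agent.H436 Cfsg.Agent.H902 Cfsg.Agent.H290.ElReg Cfsg.Agent.H290.ElTab
  Cfsg.Agent.H56.Exc Cfsg.Agent.H325.Loc Cfsg.Agent.H915.GN Cfsg.Agent.H264.FKS Cfsg.Agent.H325.Same Cfsg.Agent.H325.IsoExc
  Cfsg.Agent.H563.KG Cfsg.Agent.H190.Odd Cfsg.Agent.H912.Bd Cfsg.Agent.H290.ElWt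

/-- the centraliser of `x` in `A` has index `3 ^ 5`: then `A = [A, x]⟨b⟩` -/
theorem exists_b {G : Type*} [Group G] [Finite G] {A : Subgroup G} [A.Normal]
    (hA : ∀ a ∈ A, ∀ b ∈ A, a * b = b * a) {x : G} {m : ℕ} (hc : Nat.card A = 3 * m)
    (hx : Nat.card ↥(A ⊓ Subgroup.centralizer ({x} : Set G)) = 3) :
    ∃ b ∈ A, ∀ a ∈ A, ∃ c ∈ A, ∃ i : ℕ, a = x * c * x⁻¹ * c⁻¹ * b ^ i := by
  let g : ↥A →* ↥A :=
    { toFun := fun a => ⟨x * a * x⁻¹ * (a : G)⁻¹, mul_mem ((inferInstance : A.Normal).conj_mem a a.2 x) (inv_mem a.2)⟩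
      map_one' := Subtype.ext (by simp)
      map_mul' := fun a b => Subtype.ext (by
        have h1 := hA _ ((inferInstance : A.Normal).conj_mem (b : G) b.2 x) (a : G)⁻¹ (inv_mem a.2)
        show x * ((a : G) * b) * x⁻¹ * ((a : G) * b)⁻¹ = x * a * x⁻¹ * (a : G)⁻¹ * (x * b * x⁻¹ * (b : G)⁻¹)
        have h2 := hA (a : G)⁻¹ (inv_mem a.2) (b : G)⁻¹ (inv_mem b.2)
        calc x * ((a : G) * b) * x⁻¹ * ((a : G) * b)⁻¹
            = x * a * x⁻¹ * (x * b * x⁻¹) * ((b : G)⁻¹ * (a : G)⁻¹) := by group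
          _ = x * a * x⁻¹ * (x * b * x⁻¹) * ((a : G)⁻¹ * (b : G)⁻¹) := by rw [h2]
          _ = x * a * x⁻¹ * ((x * b * x⁻¹) * (a : G)⁻¹) * (b : G)⁻¹ := by group
          _ = x * a * x⁻¹ * ((a : G)⁻¹ * (x * b * x⁻¹)) * (b : G)⁻¹ := by rw [h1]
          _ = _ := by group) }
  have hker : g.ker.map A.subtype = A ⊓ Subgroup.centralizer ({x} : Set G) := by
    ext a
    constructor
    · rintro ⟨a, ha, rfl⟩
      have h1 : x * a * x⁻¹ * (a : G)⁻¹ = 1 := congrArg Subtype.val (MonoidHom.mem_ker.1 ha)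
      rw [mul_inv_eq_one, mul_inv_eq_iff_eq_mul] at h1
      exact ⟨a.2, Subgroup.mem_centralizer_singleton_iff.2 h1.symm⟩
    · rintro ⟨ha, ha'⟩
      refine ⟨⟨a, ha⟩, MonoidHom.mem_ker.2 (Subtype.ext ?_), rfl⟩
      show x * a * x⁻¹ * a⁻¹ = 1
      rw [mul_inv_eq_one, mul_inv_eq_iff_eq_mul]
      exact (Subgroup.mem_centralizer_singleton_iff.1 ha').symm
  have hk3 : Nat.card g.ker = 3 := by
    rw [← hx, ← hker, Subgroup.card_map_of_injective A.subtype_injective]
  have hidx : g.range.index = 3 := by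
    have h1 : Nat.card g.range * Nat.card g.ker = Nat.card A := by
      rw [mul_comm, ← Subgroup.index_ker]
      exact g.ker.card_mul_index
    have h2 := g.range.card_mul_index
    rw [← h1, hk3] at h2
    exact Nat.eq_of_mul_eq_mul_left Nat.card_pos h2
  have hne : g.range ≠ ⊤ := by
    intro h
    rw [h, Subgroup.index_top] at hidx
    norm_num at hidx
  obtain ⟨b, hb⟩ : ∃ b : ↥A, b ∉ g.range := by
    by_contra hcon
    push Not at hcon
    exact hne ((Subgroup.eq_top_iff' _).2 hcon)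
  have hRn : g.range.Normal := ⟨fun a ha c => by
    have h1 : c * a * c⁻¹ = a := by
      rw [mul_inv_eq_iff_eq_mul]
      exact Subtype.ext (hA c c.2 a a.2)
    rw [h1]; exact ha⟩
  have hsup : Subgroup.zpowers b ⊔ g.range = ⊤ := by
    have h1 : (Subgroup.zpowers b ⊔ g.range).index ∣ 3 := hidx ▸ Subgroup.index_dvd_of_le le_sup_right
    rcases (Nat.dvd_prime Nat.prime_three).1 h1 with h2 | h2
    · exact Subgroup.index_eq_one.1 h2
    · exfalso
      apply hb
      have h3 : g.range = Subgroup.zpowers b ⊔ g.range := by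
        refine Subgroup.eq_of_le_of_card_ge le_sup_right ?_
        have h4 := (Subgroup.zpowers b ⊔ g.range).card_mul_index
        have h5 := g.range.card_mul_index
        rw [h2] at h4
        rw [hidx] at h5
        omega
      rw [h3]
      exact (le_sup_left : Subgroup.zpowers b ≤ _) (Subgroup.mem_zpowers b)
  refine ⟨b, b.2, fun a ha => ?_⟩
  have h1 : (⟨a, ha⟩ : ↥A) ∈ ((Subgroup.zpowers b ⊔ g.range : Subgroup ↥A) : Set ↥A) := by
    rw [hsup]; exact Subgroup.mem_top _
  rw [Subgroup.mul_normal] at h1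
  obtain ⟨u, hu, _, ⟨c, rfl⟩, huc⟩ := h1
  obtain ⟨i, hi⟩ := (mem_powers_iff_mem_zpowers (x := b)).2 hu
  refine ⟨c, c.2, i, ?_⟩
  have h2 : (u : G) * (g c : ↥A) = a := congrArg Subtype.val huc
  have h3 : (u : G) = (b : G) ^ i := by
    have : b ^ i = u := hi
    rw [← this]; rfl
  rw [← h2, hA _ u.2 _ (g c).2, h3]
  rfl

/-- the centraliser of an element of prime order in a normal subgroup -/
theorem card_modEq {G : Type*} [Group G] [Finite G] {A : Subgroup G} [A.Normal] {x : G} {r : ℕ} (hr : r.Prime)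
    (hx : orderOf x = r) : Nat.card A ≡ Nat.card ↥(A ⊓ Subgroup.centralizer ({x} : Set G)) [MOD r] := by
  have := Fact.mk hr
  let φ : Subgroup.zpowers x →* MulAut A := (MulAut.conjNormal (H := A)).comp (Subgroup.zpowers x).subtype
  let _ : MulAction (Subgroup.zpowers x) A := MulAction.compHom A φ
  have hP : IsPGroup r (Subgroup.zpowers x) := IsPGroup.of_card (n := 1) (by rw [Nat.card_zpowers, hx, pow_one])
  have h1 := hP.card_modEq_card_fixedPoints A
  have hmem : ∀ a : A, a ∈ MulAction.fixedPoints (Subgroup.zpowers x) A ↔ (a : G) ∈ Subgroup.centralizer ({x} : Set G) := by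
    intro a
    rw [Subgroup.mem_centralizer_singleton_iff]
    constructor
    · intro h
      have h3 : φ ⟨x, Subgroup.mem_zpowers x⟩ a = a := h ⟨x, Subgroup.mem_zpowers x⟩
      have h4 : x * (a : G) * x⁻¹ = (a : G) := by
        have := congrArg Subtype.val h3
        simpa [φ, MulAut.conjNormal_apply] using this
      rw [mul_inv_eq_iff_eq_mul] at h4
      exact h4.symm
    · rintro h ⟨_, i, rfl⟩
      apply Subtype.ext
      show ((MulAut.conjNormal (x ^ i) a : ↥A) : G) = a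
      rw [MulAut.conjNormal_apply, mul_inv_eq_iff_eq_mul]
      have h2 : Commute x (a : G) := h.symm
      exact h2.zpow_left i
  have h2 : Nat.card (MulAction.fixedPoints (Subgroup.zpowers x) A) =
      Nat.card ↥(A ⊓ Subgroup.centralizer ({x} : Set G)) :=
    Nat.card_congr
      { toFun := fun a => ⟨(a.1 : G), a.1.2, (hmem a.1).1 a.2⟩
        invFun := fun a => ⟨⟨a.1, a.2.1⟩, (hmem _).2 a.2.2⟩
        left_inv := fun a => rfl
        right_inv := fun a => rfl }
  rw [h2] at h1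
  exact h1

variable {F : Type} [Field F] [Fintype F] (hK : Fintype.card F = 2 ^ 2)

include hK in
/-- **No normal 3-subgroups.** -/
theorem killB3 (tb : OrderTable.{0}) (B : Subgroup ↥(Lie.twistedE6 F 2)) (h13 : 13 ∣ Nat.card B)
    (h11 : 11 ∣ Nat.card B) : KillB B 3 := by
  intro A hAn hAc hA3
  by_contra hA0
  have hfin : Finite ↥(Lie.twistedE6 F 2) := inferInstance
  have hch2 : CharP F 2 := charP_of_pow (a := 2) Nat.prime_two hK
  have hch2' : CharP (AlgebraicClosure F) 2 := charP_of_injective_algebraMap (algebraMap F _).injective 2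
  have : Fact (Nat.Prime 3) := ⟨Nat.prime_three⟩
  have : Fact (Nat.Prime 11) := ⟨by norm_num⟩
  have : Fact (Nat.Prime 13) := ⟨by norm_num⟩
  have hdB : Nat.card ↥B ∣ G0 := card_two hK tb ▸ Subgroup.card_subgroup_dvd_card B
  have hb := (big13 hK).subgroup B
  have hP3 : IsPGroup 3 A := fun a => ⟨1, by rw [pow_one]; exact Subtype.ext (hA3 a a.2)⟩
  obtain ⟨k, hk⟩ := IsPGroup.iff_card.1 hP3
  have hk0 : k ≠ 0 := by
    rintro rfl
    rw [pow_zero, Subgroup.card_eq_one] at hk
    exact hA0 hk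
  have hk9 : k ≤ 9 := pow_le3 (by rw [← hk]; exact (Subgroup.card_subgroup_dvd_card A).trans hdB)
  obtain ⟨y, hy⟩ := exists_prime_orderOf_dvd_card' 13 h13
  have fy : ∀ a ∈ A, y * a = a * y → a = 1 := fun a ha hc =>
    free_of_big (t := 3) hb (by norm_num) (by norm_num) y (by rw [hy]; norm_num) (by rw [hy]) a (hA3 a ha) hc
  have h26 := H563.KG.dvd_card_sub_one (by norm_num) hy fy
  rw [hk] at h26
  obtain ⟨x, hx⟩ := exists_prime_orderOf_dvd_card' 11 h11
  -- the centraliser of `x`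
  have hPC : IsPGroup 3 ↥(A ⊓ Subgroup.centralizer ({x} : Set ↥B)) := hP3.to_le inf_le_left
  obtain ⟨j, hj⟩ := IsPGroup.iff_card.1 hPC
  have hmod := card_modEq (A := A) (by norm_num) hx
  rw [hk, hj] at hmod
  have hjk : j < k := by
    have h1 : Nat.card ↥(A ⊓ Subgroup.centralizer ({x} : Set ↥B)) ∣ Nat.card A := Subgroup.card_dvd_of_le inf_le_left
    rw [hk, hj] at h1
    have h2 : j ≤ k := (Nat.pow_dvd_pow_iff_le_right (by norm_num)).1 h1
    refine lt_of_le_of_ne h2 ?_
    rintro rfl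
    have h3 : A ⊓ Subgroup.centralizer ({x} : Set ↥B) = A :=
      Subgroup.eq_of_le_of_card_ge inf_le_left (by rw [hk, hj])
    have h4 : x ∈ Subgroup.centralizer (A : Set ↥B) := by
      rw [Subgroup.mem_centralizer_iff]
      intro a ha
      have h5 : a ∈ A ⊓ Subgroup.centralizer ({x} : Set ↥B) := by rw [h3]; exact ha
      exact Subgroup.mem_centralizer_singleton_iff.1 h5.2
    refine no_cent hb h13 (fun h => ?_) hAn hA0 hA3 ?_
    · have := pow_le11 (h.trans hdB)
      omega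
    · have h5 := orderOf_dvd_natCard (⟨x, h4⟩ : Subgroup.centralizer (A : Set ↥B))
      rwa [Subgroup.orderOf_mk, hx] at h5
  have hk36 : k = 6 ∧ j = 1 ∨ k = 9 := by
    unfold Nat.ModEq at hmod
    interval_cases k <;> try omega
    all_goals first
      | (exfalso; revert h26; decide)
      | (interval_cases j <;> first | (left; exact ⟨rfl, rfl⟩) | (exfalso; revert hmod; decide))
      | (right; rfl)
  rcases hk36 with ⟨rfl, rfl⟩ | rfl
  · -- `3 ^ 6`
    obtain ⟨b, hbA, hb'⟩ := exists_b (A := A) hAc (x := x) (m := 3 ^ 5) (by rw [hk]; norm_num) (by rw [hj, pow_one])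
    have hinj : Function.Injective (inc F B) := fun u v h =>
      Subtype.ext (Subtype.ext h)
    have h1 := eq_one_of_sq (cl (inc F B)) hAc (by
      intro h
      have h2 := (CharP.cast_eq_zero_iff (AlgebraicClosure F) 2 3).1 h
      norm_num at h2) hA3 (sq_closed hK B A) hx hy fy hbA hb' (by
        rw [Module.finrank_fintype_fun_eq_card, card_idx_E6])
    apply hA0
    rw [eq_bot_iff]
    intro a ha
    exact Subgroup.mem_bot.2 (cl_injective hinj (h1 a ha))
  · -- `3 ^ 9`
    refine no_exp3 hK tb (A.map B.subtype) ?_ ?_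
    · rw [Subgroup.card_map_of_injective B.subtype_injective, hk]
    · rintro _ ⟨a, ha, rfl⟩
      rw [← map_pow, hA3 a ha, map_one]

end Cfsg.Agent.H190.Cov.Two
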