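import Cfsg.Agent.H190.Cov.Two.Final
import Cfsg.Agent.H56.Te6two.Final

/-!
# S2499, the row `²E₆(q)`
-/

set_option autoImplicit false

namespace Cfsg.Agent.H190.Cov

open Cfsg Cfsg.Agent.OrdDiv Cfsg.Agent.H436 Cfsg.Agent.H902 Cfsg.Agent.H563.KG Cfsg.Agent.H278.Cov
  Cfsg.Agent.H264.FKS Cfsg.Agent.H56.Exc Cfsg.Agent.H290.ElReg Cfsg.Agent.H915.GN

/-- **S2499, the row `²E₆(q)`**, all `q`. -/
theorem noTwo_te6 (tb : OrderTable.{0}) (hcyc : CycFixSolv.{0}) (hcf : CF) {q : ℕ} {T : Type} [Group T] [Finite T]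
    (h : IsNamed (.te6 q) T) : NoTwo T :=
  Two.noTwo_te6_of tb hcyc hcf (fun hK => Cfsg.Agent.H56.Te6two.exists_33 hK)
    (fun hK => Cfsg.Agent.H56.Te6two.not_real_11 hK) h

end Cfsg.Agent.H190.Cov
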